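import Groth.Prelude.Def_EGA4Misc
import Mathlib.AlgebraicGeometry.Morphisms.UniversallyInjective
import Mathlib.AlgebraicGeometry.Morphisms.FlatDescent

/-!
Radiciality at a point in terms of field valued points.
-/

set_option autoImplicit false

universe u

open CategoryTheory CategoryTheory.Limits AlgebraicGeometry

noncomputable section

namespace Groth.Agent.RadPt58

variable {X Y Z : Scheme.{u}}

/-- A field valued point is constant. -/
theorem apply_eq {K : Type u} [Field K] (g : Spec (CommRingCat.of K) ⟶ X) (p q : Spec (CommRingCat.of K)) :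
    g p = g q := congrArg g (Subsingleton.elim p q)

/-- The point of the spectrum of a field. -/
def pt (K : Type u) [Field K] : Spec (CommRingCat.of K) := IsLocalRing.closedPoint K

/-- `f` is injective on field valued points over `y`. -/
def PointsInj (f : X ⟶ Y) (y : Y) : Prop :=
  ∀ (K : Type u) [Field K] (g₁ g₂ : Spec (CommRingCat.of K) ⟶ X),
    g₁ ≫ f = g₂ ≫ f → f (g₁ (pt K)) = y → g₁ = g₂

theorem isRadicialAt_iff (f : X ⟶ Y) (y : Y) : RadPt.IsRadicialAt f y ↔ PointsInj f y := by
  constructor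
  · intro ⟨h_inj, hf⟩ K _ g₁ g₂ hg hy
    obtain ⟨e, h⟩ := Scheme.SpecToEquivOfField_eq_iff.mp congr((Y.SpecToEquivOfField K) $(hg))
    apply (X.SpecToEquivOfField K).injective
    dsimp [Scheme.SpecToEquivOfField] at e h
    have e' : g₁ (IsLocalRing.closedPoint K) = g₂ (IsLocalRing.closedPoint K) :=
      h_inj _ _ hy ((show f (g₁ (IsLocalRing.closedPoint K)) = f (g₂ (IsLocalRing.closedPoint K)) from e).symm.trans hy)
    simp only [Scheme.descResidueField_stalkClosedPointTo_comp] at e h
    rw [← f.residueFieldMap_congr'_assoc e', CommRingCat.hom_ext_iff] at h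
    rw [Scheme.SpecToEquivOfField_eq_iff]
    have hfx : (f.residueFieldMap (g₁ (IsLocalRing.closedPoint K))).hom.IsPurelyInseparable := hf _ hy
    algebraize [(f.residueFieldMap (g₁ (IsLocalRing.closedPoint K))).hom]
    refine ⟨e', CommRingCat.hom_ext ?_⟩
    exact IsPurelyInseparable.injective_comp_algebraMap
      (Y.residueField (f (g₁ (IsLocalRing.closedPoint K)))) (X.residueField (g₁ (IsLocalRing.closedPoint K))) _ h
  · intro h
    constructor
    · intro x x' hx hx'
      let a := X.fromSpecResidueField x ≫ f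
      let b := X.fromSpecResidueField x' ≫ f
      obtain ⟨z, -, -⟩ := Scheme.Pullback.exists_preimage_pullback (f := a) (g := b)
        (pt _) (pt _) (((congrArg f (X.fromSpecResidueField_apply x _)).trans hx).trans ((congrArg f (X.fromSpecResidueField_apply x' _)).trans hx').symm)
      let φ := (pullback a b).fromSpecResidueField z
      have h2 := h ((pullback a b).residueField z) (φ ≫ pullback.fst a b ≫ X.fromSpecResidueField x)
        (φ ≫ pullback.snd a b ≫ X.fromSpecResidueField x')
        (by simp only [Category.assoc]; exact congrArg (φ ≫ ·) pullback.condition)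
        ((congrArg f (X.fromSpecResidueField_apply x _)).trans hx)
      have h3 := congrArg (fun g : Spec _ ⟶ X => g (pt _)) h2
      exact ((X.fromSpecResidueField_apply x _).symm.trans h3).trans (X.fromSpecResidueField_apply x' _)
    · intro x hx
      algebraize [(f.residueFieldMap x).hom]
      rw [RingHom.IsPurelyInseparable, isPurelyInseparable_iff_subsingleton_emb, subsingleton_iff]
      intro σ₁ σ₂
      apply AlgHom.coe_ringHom_injective
      have h2 := h _ (Spec.map (CommRingCat.ofHom σ₁.toRingHom) ≫ X.fromSpecResidueField x)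
        (Spec.map (CommRingCat.ofHom σ₂.toRingHom) ≫ X.fromSpecResidueField x)
        (by
          simp only [Category.assoc, ← f.SpecMap_residueFieldMap_fromSpecResidueField x, ← Spec.map_comp_assoc]
          congr 2
          ext a
          exact (AlgHom.commutes σ₁ a).trans (AlgHom.commutes σ₂ a).symm)
        ((congrArg f (X.fromSpecResidueField_apply x _)).trans hx)
      rw [cancel_mono] at h2
      exact congrArg CommRingCat.Hom.hom (Spec.map_injective h2)

/-- Extension of field valued points. -/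
theorem exists_field_lift {T : Scheme.{u}} {K : Type u} [Field K] (f : X ⟶ T) (g : Spec (CommRingCat.of K) ⟶ T)
    (x : X) (hx : f x = g (pt K)) :
    ∃ (L : Type u) (_ : Field L) (q : Spec (CommRingCat.of L) ⟶ Spec (CommRingCat.of K))
      (g' : Spec (CommRingCat.of L) ⟶ X), g' ≫ f = q ≫ g ∧ g' (pt L) = x ∧ Epi q := by
  obtain ⟨z, hz, -⟩ := Scheme.Pullback.exists_preimage_pullback (f := f) (g := g) x (pt K) hx
  let φ := (pullback f g).fromSpecResidueField z
  obtain ⟨ψ, hψ⟩ := Spec.map_surjective (φ ≫ pullback.snd f g)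
  refine ⟨(pullback f g).residueField z, inferInstance, φ ≫ pullback.snd f g, φ ≫ pullback.fst f g, ?_, ?_, ?_⟩
  · simp [pullback.condition]
  · exact (congrArg (pullback.fst f g) ((pullback f g).fromSpecResidueField_apply z _)).trans hz
  · rw [← hψ]
    have : Flat (Spec.map ψ) := by
      rw [HasRingHomProperty.Spec_iff (P := @Flat)]
      algebraize [ψ.hom]
      exact RingHom.flat_algebraMap_iff.2 (inferInstanceAs (Module.Flat K ((pullback f g).residueField z)))
    have : Surjective (Spec.map ψ) :=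
      ⟨fun p => ⟨IsLocalRing.closedPoint _, Subsingleton.elim (α := PrimeSpectrum K) _ _⟩⟩
    exact Flat.epi_of_flat_of_surjective (Spec.map ψ)

theorem pointsInj_of_isPullback {X' Y' : Scheme.{u}} {f : X ⟶ Y} {h : Y' ⟶ Y} {f' : X' ⟶ Y'} {h' : X' ⟶ X}
    (sq : IsPullback h' f' f h) (y' : Y') : PointsInj f (h y') ↔ PointsInj f' y' := by
  constructor
  · intro hf K _ g₁ g₂ hg hy
    refine sq.hom_ext (hf K _ _ ?_ ?_) hg
    · simp only [Category.assoc, sq.w]
      rw [reassoc_of% hg]
    · exact (congrArg (fun g : X' ⟶ Y => g (g₁ (pt K))) sq.w).trans (congrArg h hy)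
  · intro hf K _ g₁ g₂ hg hy
    obtain ⟨L, _, q, a, ha, hay, hq⟩ := exists_field_lift h (g₁ ≫ f) y' (by simp [hy])
    rw [← cancel_epi q]
    have e₁ : (q ≫ g₁) ≫ f = a ≫ h := by rw [Category.assoc, ha]
    have e₂ : (q ≫ g₂) ≫ f = a ≫ h := by rw [Category.assoc, ← hg, ha]
    have h3 := hf L (sq.lift _ _ e₁) (sq.lift _ _ e₂) (by simp) (by
      rw [← Scheme.Hom.comp_apply, sq.lift_snd]; exact hay)
    have h4 := congrArg (· ≫ h') h3
    simpa using h4

theorem pointsInj_comp (f : X ⟶ Y) (g : Y ⟶ Z) (y : Y) (hf : PointsInj f y) (hg : PointsInj g (g y)) :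
    PointsInj (f ≫ g) (g y) := by
  intro K _ g₁ g₂ he hy
  rw [Scheme.Hom.comp_apply] at hy
  refine hf K g₁ g₂ (hg K _ _ (by simpa using he) (by simpa using hy)) ?_
  exact ((isRadicialAt_iff g (g y)).2 hg).1 _ _ hy rfl

theorem pointsInj_of_comp (f : X ⟶ Y) (g : Y ⟶ Z) (y : Y) (h : PointsInj (f ≫ g) (g y)) :
    PointsInj f y := fun K _ g₁ g₂ he hy =>
  h K g₁ g₂ (by rw [reassoc_of% he]) (by rw [Scheme.Hom.comp_apply, hy])

theorem pointsInj_of_comp_surjective (f : X ⟶ Y) (g : Y ⟶ Z) [Surjective f] (z : Z) (h : PointsInj (f ≫ g) z) :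
    PointsInj g z := by
  intro K _ g₁ g₂ he hz
  obtain ⟨x₁, hx₁⟩ := f.surjective (g₁ (pt K))
  obtain ⟨L₁, _, q₁, a₁, ha₁, -, hq₁⟩ := exists_field_lift f g₁ x₁ hx₁
  obtain ⟨x₂, hx₂⟩ := f.surjective ((q₁ ≫ g₂) (pt L₁))
  obtain ⟨L₂, _, q₂, a₂, ha₂, -, hq₂⟩ := exists_field_lift f (q₁ ≫ g₂) x₂ hx₂
  rw [← cancel_epi q₁, ← cancel_epi q₂]
  have h3 := h L₂ (q₂ ≫ a₁) a₂ (by
      rw [Category.assoc, reassoc_of% ha₁, reassoc_of% ha₂, he])
    (by
      simp only [← Scheme.Hom.comp_apply, Category.assoc, reassoc_of% ha₁]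
      simp only [Scheme.Hom.comp_apply]
      rw [Subsingleton.elim (α := PrimeSpectrum K) (q₁ (q₂ (pt L₂))) (pt K), hz])
  rw [← ha₂, ← ha₁, ← Category.assoc, h3]

end Groth.Agent.RadPt58
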