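import Groth.Agent.RadPt58.Points
import Mathlib.AlgebraicGeometry.Morphisms.Flat
import Mathlib.AlgebraicGeometry.Morphisms.Preimmersion
import Mathlib.AlgebraicGeometry.Morphisms.UniversallyOpen

/-!
Flat base change of birational morphisms.
-/

set_option autoImplicit false

universe u

open CategoryTheory CategoryTheory.Limits AlgebraicGeometry TopologicalSpace

noncomputable section

namespace Groth.Agent.RadPt58

theorem mem_genericPoints_iff {X : Type*} [TopologicalSpace X] [QuasiSober X] [T0Space X] (x : X) :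
    x ∈ genericPoints X ↔ ∀ y : X, y ⤳ x → y = x := by
  constructor
  · intro hx y hy
    have h1 : closure ({x} : Set X) ⊆ closure {y} :=
      isClosed_closure.closure_subset_iff.2 (Set.singleton_subset_iff.2 hy.mem_closure)
    have h2 := hx.2 isIrreducible_singleton.closure h1
    exact ((specializes_iff_mem_closure.2 (h2 (subset_closure rfl))).antisymm hy).eq.symm
  · intro h
    refine ⟨isIrreducible_singleton.closure, fun T hT hle => ?_⟩
    obtain ⟨η, hη⟩ := QuasiSober.sober (S := closure T) hT.closure isClosed_closure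
    have hηx : η ⤳ x := specializes_iff_mem_closure.2 (hη.symm ▸ subset_closure (hle (subset_closure rfl)))
    have := h η hηx
    subst this
    exact subset_closure.trans hη.ge

variable {X Y X' Y' : Scheme.{u}} {f : X ⟶ Y} {g : Y' ⟶ Y} {f' : X' ⟶ Y'} {g' : X' ⟶ X}

theorem apply_mem_genericPoints [Flat g] {y' : Y'} (hy' : y' ∈ genericPoints Y') : g y' ∈ genericPoints Y := by
  rw [mem_genericPoints_iff] at hy' ⊢
  intro y hy
  obtain ⟨z, hz, hzy⟩ := (Flat.generalizingMap g) hy
  rw [← hzy, hy' z hz]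

theorem isPurelyInseparable_of_bijective {f : X ⟶ Y} {x : X} (h : Function.Bijective (f.residueFieldMap x).hom) :
    (f.residueFieldMap x).hom.IsPurelyInseparable := by
  algebraize [(f.residueFieldMap x).hom]
  rw [RingHom.IsPurelyInseparable, isPurelyInseparable_iff_subsingleton_emb, subsingleton_iff]
  intro σ₁ σ₂
  ext a
  obtain ⟨b, rfl⟩ := h.2 a
  exact (σ₁.commutes b).trans (σ₂.commutes b).symm

/-- Over a point above a point with trivial fibre the base change has a trivial fibre,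
and specializations in the fibre lift. -/
theorem trivialFibre (sq : IsPullback g' f' f g) {y : Y} {x : X} (hx : f x = y)
    (huniq : ∀ x₁ x₂ : X, f x₁ = y → f x₂ = y → x₁ = x₂)
    (hbij : Function.Bijective (f.residueFieldMap x).hom) :
    (∀ y' : Y', g y' = y → (∀ x₁ x₂ : X', f' x₁ = y' → f' x₂ = y' → x₁ = x₂) ∧
      ∃ x' : X', f' x' = y' ∧ Function.Bijective (f'.residueFieldMap x').hom) ∧
    (∀ y₁ y₂ : Y', y₁ ⤳ y₂ → g y₁ = y → g y₂ = y →
      ∃ x₁ x₂ : X', f' x₁ = y₁ ∧ f' x₂ = y₂ ∧ x₁ ⤳ x₂) := by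
  have hrad : RadPt.IsRadicialAt f y := ⟨huniq, fun z hz => by
    rw [huniq z x hz hx]
    exact isPurelyInseparable_of_bijective hbij⟩
  subst hx
  have : IsIso (f.residueFieldMap x) := (ConcreteCategory.isIso_iff_bijective _).2 hbij
  let a := Y.fromSpecResidueField (f x)
  let b := Spec.map (inv (f.residueFieldMap x)) ≫ X.fromSpecResidueField x
  have hb : b ≫ f = a := by
    rw [Category.assoc, ← f.SpecMap_residueFieldMap_fromSpecResidueField x, ← Spec.map_comp_assoc,
      IsIso.hom_inv_id, Spec.map_id, Category.id_comp]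
  let W := pullback a g
  let s : W ⟶ X' := sq.lift (pullback.fst a g ≫ b) (pullback.snd a g) (by rw [Category.assoc, hb, pullback.condition])
  have hs : s ≫ f' = pullback.snd a g := sq.lift_snd _ _ _
  have : IsPreimmersion (pullback.snd a g) := inferInstance
  have hpt : ∀ y' : Y', g y' = f x → ∃ w : W, pullback.snd a g w = y' := by
    intro y' hy'
    obtain ⟨w, -, hw⟩ := Scheme.Pullback.exists_preimage_pullback (f := a) (g := g)
      (IsLocalRing.closedPoint _) y' (((Y.fromSpecResidueField_apply (f x) _)).trans hy'.symm)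
    exact ⟨w, hw⟩
  refine ⟨fun y' hy' => ?_, fun y₁ y₂ hsp h₁ h₂ => ?_⟩
  · have hrad' : RadPt.IsRadicialAt f' y' := by
      rw [isRadicialAt_iff, ← pointsInj_of_isPullback sq y', hy', ← isRadicialAt_iff]
      exact hrad
    refine ⟨hrad'.1, ?_⟩
    obtain ⟨w, hw⟩ := hpt y' hy'
    refine ⟨s w, (congrArg (fun q : W ⟶ Y' => q w) hs).trans hw, (f'.residueFieldMap (s w)).hom.injective, ?_⟩
    have hsurj : Function.Surjective ((s ≫ f').residueFieldMap w).hom := by
      rw [hs]
      intro c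
      obtain ⟨d, rfl⟩ := IsLocalRing.residue_surjective c
      obtain ⟨e, rfl⟩ := (pullback.snd a g).stalkMap_surjective w d
      exact ⟨Y'.residue _ e, congrArg (fun q => q.hom e) (Scheme.residue_residueFieldMap (pullback.snd a g) w)⟩
    rw [Scheme.residueFieldMap_comp] at hsurj
    intro c
    obtain ⟨d, hd⟩ := hsurj ((s.residueFieldMap w).hom c)
    exact ⟨d, (s.residueFieldMap w).hom.injective hd⟩
  · obtain ⟨w₁, rfl⟩ := hpt y₁ h₁
    obtain ⟨w₂, rfl⟩ := hpt y₂ h₂
    exact ⟨s w₁, s w₂, congrArg (fun q : W ⟶ Y' => q w₁) hs, congrArg (fun q : W ⟶ Y' => q w₂) hs,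
      ((pullback.snd a g).isEmbedding.isInducing.specializes_iff.1 hsp).map s.continuous⟩

theorem isBirational_of_isPullback [Flat g] (sq : IsPullback g' f' f g) (hf : RadPt.IsBirational f) :
    RadPt.IsBirational f' := by
  have hg' : Flat g' := MorphismProperty.of_isPullback sq.flip inferInstance
  have hfib : ∀ y : Y, y ∈ genericPoints Y → ∃ x : X, f x = y ∧ Function.Bijective (f.residueFieldMap x).hom := by
    intro y hy
    obtain ⟨x, -, hx⟩ := hf.1.2.2 hy
    exact ⟨x, hx, (hf.2 y hy).2 x hx⟩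
  have key : ∀ y' ∈ genericPoints Y', (∀ x₁ x₂ : X', f' x₁ = y' → f' x₂ = y' → x₁ = x₂) ∧
      ∃ x' : X', f' x' = y' ∧ Function.Bijective (f'.residueFieldMap x').hom := by
    intro y' hy'
    have hy := apply_mem_genericPoints (g := g) hy'
    obtain ⟨x, hx, hb⟩ := hfib _ hy
    exact (trivialFibre sq hx (hf.2 _ hy).1 hb).1 y' rfl
  refine ⟨⟨fun x' hx' => ?_, fun x₁ h₁ x₂ h₂ he => ?_, fun y' hy' => ?_⟩, fun y' hy' => ?_⟩
  · have hy : g (f' x') ∈ genericPoints Y := by
      rw [← Scheme.Hom.comp_apply, ← sq.w, Scheme.Hom.comp_apply]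
      exact hf.1.1 (apply_mem_genericPoints (g := g') hx')
    obtain ⟨x, hx, hb⟩ := hfib _ hy
    rw [mem_genericPoints_iff] at hx' ⊢
    intro y'' hsp
    have hy'' : g y'' = g (f' x') := (mem_genericPoints_iff _).1 hy _ (hsp.map g.continuous)
    obtain ⟨x₁, x₂, h₁, h₂, hsp'⟩ := (trivialFibre sq hx (hf.2 _ hy).1 hb).2 y'' (f' x') hsp hy'' rfl
    have h3 := ((trivialFibre sq hx (hf.2 _ hy).1 hb).1 _ rfl).1 x₂ x' h₂ rfl
    subst h3
    rw [← h₁, hx' x₁ hsp']
  · have hy : g (f' x₁) ∈ genericPoints Y := by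
      rw [← Scheme.Hom.comp_apply, ← sq.w, Scheme.Hom.comp_apply]
      exact hf.1.1 (apply_mem_genericPoints (g := g') h₁)
    obtain ⟨x, hx, hb⟩ := hfib _ hy
    exact ((trivialFibre sq hx (hf.2 _ hy).1 hb).1 _ rfl).1 x₁ x₂ rfl he.symm
  · obtain ⟨hu, x', hx', -⟩ := key y' hy'
    refine ⟨x', (mem_genericPoints_iff _).2 fun x'' hsp => ?_, hx'⟩
    exact hu _ _ ((mem_genericPoints_iff _).1 hy' _ (hx' ▸ hsp.map f'.continuous)) hx'
  · obtain ⟨hu, x', hx', hb⟩ := key y' hy'
    exact ⟨hu, fun z hz => hu x' z hx' hz ▸ hb⟩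

end Groth.Agent.RadPt58
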