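import Groth.Agent.RadPt58.Branches
import Groth.Agent.RadPt58.Birational
import Groth.Agent.Brnch26.Nbhd
import Mathlib.AlgebraicGeometry.Morphisms.Integral

/-!
Geometric unibranchness along integral birational morphisms.
-/

set_option autoImplicit false

universe u

open CategoryTheory AlgebraicGeometry IsLocalRing

noncomputable section

namespace Groth.Agent.RadPt58

section algebra

variable {R S : Type u} [CommRing R] [CommRing S] [Algebra R S] [Algebra.IsIntegral R S]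
  {Ω : Type u} [Field Ω] [IsAlgClosed Ω]

/-- Extension of a geometric point along an integral algebra to a chosen prime. -/
theorem exists_hom_over (a : R →+* Ω) (Q : Ideal S) [Q.IsPrime]
    (hQ : Q.comap (algebraMap R S) = RingHom.ker a) :
    ∃ b : S →+* Ω, b.comp (algebraMap R S) = a ∧ RingHom.ker b = Q := by
  let p := Q.comap (algebraMap R S)
  have : p.IsPrime := Ideal.comap_isPrime _ _
  let ρ : R ⧸ p →+* Ω := Ideal.Quotient.lift p a fun x hx => hQ.le hx
  have hρ : Function.Injective ρ := RingHom.lift_injective_of_ker_le_ideal p _ hQ.ge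
  letI : Algebra (R ⧸ p) Ω := ρ.toAlgebra
  letI : Algebra (R ⧸ p) (S ⧸ Q) := (Ideal.quotientMap Q (algebraMap R S) le_rfl).toAlgebra
  have : IsScalarTower R (R ⧸ p) (S ⧸ Q) := IsScalarTower.of_algebraMap_eq fun _ => rfl
  have : Algebra.IsIntegral (R ⧸ p) (S ⧸ Q) := ⟨fun x => (Algebra.IsIntegral.isIntegral (R := R) x).tower_top⟩
  have hinj : Function.Injective (algebraMap (R ⧸ p) (S ⧸ Q)) := Ideal.quotientMap_injective
  have : Module.IsTorsionFree (R ⧸ p) Ω := Module.isTorsionFree_iff_algebraMap_injective.2 hρ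
  have : Module.IsTorsionFree (R ⧸ p) (S ⧸ Q) := Module.isTorsionFree_iff_algebraMap_injective.2 hinj
  let ψ : (S ⧸ Q) →ₐ[R ⧸ p] Ω := IsAlgClosed.lift
  refine ⟨ψ.toRingHom.comp (Ideal.Quotient.mk Q), RingHom.ext fun r => ψ.commutes (Ideal.Quotient.mk p r), ?_⟩
  have hψ : RingHom.ker ψ.toRingHom = ⊥ := by
    have : (RingHom.ker ψ.toRingHom).IsPrime := RingHom.ker_isPrime _
    refine Ideal.eq_bot_of_comap_eq_bot (R := R ⧸ p) ?_
    rw [RingHom.comap_ker]
    have hc : ψ.toRingHom.comp (algebraMap (R ⧸ p) (S ⧸ Q)) = ρ := RingHom.ext ψ.commutes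
    rw [hc]
    exact (RingHom.injective_iff_ker_eq_bot ρ).1 hρ
  rw [← RingHom.comap_ker, hψ]
  exact Ideal.mk_ker

theorem nonempty_br (b : R →+* Ω) : Nonempty (Br R b) := by
  have : (RingHom.ker b).IsPrime := RingHom.ker_isPrime b
  obtain ⟨p, hp, hle⟩ := Ideal.exists_minimalPrimes_le (I := (⊥ : Ideal R)) (J := RingHom.ker b) bot_le
  let P : minimalPrimes R := ⟨p, hp⟩
  have : P.1.IsPrime := hp.1.1
  let T := integralClosure R P.1.ResidueField
  have hker : RingHom.ker (algebraMap R T) ≤ RingHom.ker b := by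
    intro x hx
    exact hle (Ideal.algebraMap_residueField_eq_zero.1 (congrArg Subtype.val hx))
  obtain ⟨Q, -, hQ, hQ'⟩ := Ideal.exists_ideal_over_prime_of_isIntegral (RingHom.ker b) (⊥ : Ideal T) hker
  obtain ⟨c, hc, -⟩ := exists_hom_over b Q hQ'
  exact ⟨⟨P, c, hc⟩⟩

/-- Branches along an integral birational extension. -/
theorem subsingleton_br_iff (f : minimalPrimes S → minimalPrimes R) (hf : Function.Bijective f)
    (hfc : ∀ P, (f P).1 = P.1.comap (algebraMap R S))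
    (hres : ∀ P, Function.Bijective (Ideal.ResidueField.mapₐ (f P).1 P.1 (Algebra.ofId R S) (hfc P)))
    (a : R →+* Ω) :
    Subsingleton (Br R a) ↔ Subsingleton {b : S →+* Ω // b.comp (algebraMap R S) = a} ∧
      ∀ b : S →+* Ω, b.comp (algebraMap R S) = a → Subsingleton (Br S b) := by
  obtain ⟨e⟩ := nonempty_br_equiv f hf hfc hres a
  rw [← e.subsingleton_congr]
  constructor
  · intro h
    refine ⟨⟨fun b b' => ?_⟩, fun b hb => ⟨fun z z' => ?_⟩⟩
    · exact congrArg Sigma.fst (Subsingleton.elim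
        (⟨b, (nonempty_br b.1).some⟩ : Σ b : {b : S →+* Ω // b.comp (algebraMap R S) = a}, Br S b.1)
        ⟨b', (nonempty_br b'.1).some⟩)
    · exact eq_of_heq (Sigma.mk.inj_iff.1 (Subsingleton.elim
        (⟨⟨b, hb⟩, z⟩ : Σ b : {b : S →+* Ω // b.comp (algebraMap R S) = a}, Br S b.1) ⟨⟨b, hb⟩, z'⟩)).2
  · intro ⟨h₁, h₂⟩
    refine ⟨fun ⟨b, z⟩ ⟨b', z'⟩ => ?_⟩
    obtain rfl : b = b' := Subsingleton.elim _ _
    have := h₂ b.1 b.2
    rw [Subsingleton.elim z z']

end algebra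

variable {X Y : Scheme.{u}}

theorem fromSpec_mem_genericPoints_iff {W : X.Opens} (hW : IsAffineOpen W) (P : PrimeSpectrum Γ(X, W)) :
    hW.fromSpec P ∈ genericPoints X ↔ P.asIdeal ∈ minimalPrimes Γ(X, W) := by
  rw [mem_genericPoints_iff]
  constructor
  · intro h
    refine ⟨⟨P.isPrime, bot_le⟩, fun Q hQ hle => ?_⟩
    have hsp : (⟨Q, hQ.1⟩ : PrimeSpectrum Γ(X, W)) ⤳ P := (PrimeSpectrum.le_iff_specializes _ _).1 hle
    have h1 := h _ (hsp.map hW.fromSpec.continuous)
    exact (congrArg PrimeSpectrum.asIdeal (hW.fromSpec.isOpenEmbedding.injective h1)).ge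
  · intro h z hz
    have hmem : z ∈ Set.range hW.fromSpec :=
      hz.mem_open hW.fromSpec.isOpenEmbedding.isOpen_range (Set.mem_range_self _)
    obtain ⟨(Q : PrimeSpectrum Γ(X, W)), rfl⟩ := hmem
    have hsp : Q ⤳ P := hW.fromSpec.isOpenEmbedding.isInducing.specializes_iff.1 hz
    have hle := (PrimeSpectrum.le_iff_specializes _ _).2 hsp
    exact congrArg hW.fromSpec (PrimeSpectrum.ext (le_antisymm hle (h.2 ⟨Q.isPrime, bot_le⟩ hle)))

theorem isGeomUnibranch_iff_br {W : X.Opens} (hW : IsAffineOpen W) (x : X) (hx : x ∈ W)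
    {Ω : Type u} [Field Ω] [IsAlgClosed Ω] (a : Γ(X, W) →+* Ω)
    (ha : RingHom.ker a = (hW.primeIdealOf ⟨x, hx⟩).asIdeal) :
    CAlg2.IsGeomUnibranch (X.presheaf.stalk x) ↔ Subsingleton (Br Γ(X, W) a) := by
  letI := X.presheaf.algebra_section_stalk ⟨x, hx⟩
  haveI : IsLocalization.AtPrime (X.presheaf.stalk x) (hW.primeIdealOf ⟨x, hx⟩).asIdeal :=
    hW.isLocalization_stalk ⟨x, hx⟩
  exact isGeomUnibranch_localization_iff (hW.primeIdealOf ⟨x, hx⟩).asIdeal a ha

variable (f : X ⟶ Y) {V : Y.Opens} (hV : IsAffineOpen V) (hU : IsAffineOpen (f ⁻¹ᵁ V))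

theorem SpecMap_app_fromSpec : Spec.map (f.app V) ≫ hV.fromSpec = hU.fromSpec ≫ f := by
  rw [Scheme.Hom.app_eq_appLE]
  exact IsAffineOpen.SpecMap_appLE_fromSpec f hV hU le_rfl

theorem apply_fromSpec (P : PrimeSpectrum Γ(X, f ⁻¹ᵁ V)) :
    f (hU.fromSpec P) = hV.fromSpec (PrimeSpectrum.comap (f.app V).hom P) :=
  (congrArg (fun g : Spec Γ(X, f ⁻¹ᵁ V) ⟶ Y => g P) (SpecMap_app_fromSpec f hV hU)).symm

include hV in
/-- A bijective residue field map is bijective on the residue fields of the rings of sections. -/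
theorem mapₐ_bijective [Algebra Γ(Y, V) Γ(X, f ⁻¹ᵁ V)]
    (halg : algebraMap Γ(Y, V) Γ(X, f ⁻¹ᵁ V) = (f.app V).hom) (x : X) (hx : f x ∈ V)
    (hbij : Function.Bijective (f.residueFieldMap x).hom) (P : Ideal Γ(X, f ⁻¹ᵁ V)) [P.IsPrime]
    (hP : P = (hU.primeIdealOf ⟨x, hx⟩).asIdeal) (p : Ideal Γ(Y, V)) [p.IsPrime]
    (hp : p = P.comap (algebraMap Γ(Y, V) Γ(X, f ⁻¹ᵁ V))) :
    Function.Bijective (Ideal.ResidueField.mapₐ p P (Algebra.ofId Γ(Y, V) Γ(X, f ⁻¹ᵁ V)) hp) := by
  refine ⟨RingHom.injective _, fun z => ?_⟩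
  have ev : ∀ c, X.evaluation (f ⁻¹ᵁ V) x hx c = 0 ↔ c ∈ P := fun c => by
    rw [hP]; exact Brnch26.evaluation_eq_zero_iff hU x hx c
  have key : ∀ s, ∃ c, Ideal.ResidueField.mapₐ p P (Algebra.ofId Γ(Y, V) Γ(X, f ⁻¹ᵁ V)) hp c =
      algebraMap Γ(X, f ⁻¹ᵁ V) P.ResidueField s := by
    intro s
    obtain ⟨d, hd⟩ := hbij.2 (X.evaluation (f ⁻¹ᵁ V) x hx s)
    obtain ⟨z, rfl⟩ := IsLocalRing.residue_surjective d
    letI := Y.presheaf.algebra_section_stalk ⟨f x, hx⟩
    haveI := hV.isLocalization_stalk ⟨f x, hx⟩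
    obtain ⟨⟨r, t, ht⟩, hz⟩ := IsLocalization.surj (hV.primeIdealOf ⟨f x, hx⟩).asIdeal.primeCompl z
    have hev : X.evaluation (f ⁻¹ᵁ V) x hx s * X.evaluation (f ⁻¹ᵁ V) x hx (f.app V t) =
        X.evaluation (f ⁻¹ᵁ V) x hx (f.app V r) := by
      rw [← hd, ← Scheme.evaluation_naturality_apply f x hx t, ← Scheme.evaluation_naturality_apply f x hx r]
      exact ((f.residueFieldMap x).hom.map_mul _ _).symm.trans
        (congrArg (f.residueFieldMap x).hom ((map_mul (IsLocalRing.residue _) _ _).symm.trans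
          (congrArg (IsLocalRing.residue _) hz)))
    have hmem : s * f.app V t - f.app V r ∈ P := by
      rw [← ev, map_sub, map_mul, hev, sub_self]
    have hne : f.app V t ∉ P := by
      rw [← ev, ← Scheme.evaluation_naturality_apply f x hx t, map_eq_zero,
        Brnch26.evaluation_eq_zero_iff hV (f x) hx t]
      exact ht
    refine ⟨algebraMap _ _ r / algebraMap _ _ t, ?_⟩
    have h0 : algebraMap Γ(X, f ⁻¹ᵁ V) P.ResidueField (f.app V t) ≠ 0 := fun h =>
      hne (Ideal.algebraMap_residueField_eq_zero.1 h)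
    rw [map_div₀, AlgHom.commutes, AlgHom.commutes, IsScalarTower.algebraMap_apply Γ(Y, V) Γ(X, f ⁻¹ᵁ V) P.ResidueField,
      IsScalarTower.algebraMap_apply Γ(Y, V) Γ(X, f ⁻¹ᵁ V) P.ResidueField, halg, div_eq_iff h0, ← map_mul, eq_comm,
      ← sub_eq_zero, ← map_sub]
    exact Ideal.algebraMap_residueField_eq_zero.2 hmem
  obtain ⟨x, y, hy, rfl⟩ := IsFractionRing.div_surjective (Γ(X, f ⁻¹ᵁ V) ⧸ P) z
  obtain ⟨x, rfl⟩ := Ideal.Quotient.mk_surjective x
  obtain ⟨y, rfl⟩ := Ideal.Quotient.mk_surjective y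
  obtain ⟨c, hc⟩ := key x
  obtain ⟨d, hd⟩ := key y
  refine ⟨c / d, ?_⟩
  rw [map_div₀, hc, hd]
  rfl

include hV hU in
theorem isGeomUnibranch_iff_local [IsIntegralHom f] (hf : RadPt.IsBirational f) (y : Y) (hy : y ∈ V) :
    CAlg2.IsGeomUnibranch (Y.presheaf.stalk y) ↔
      (RadPt.IsRadicialAt f y ∧ ∀ x : X, f x = y → CAlg2.IsGeomUnibranch (X.presheaf.stalk x)) := by
  letI : Algebra Γ(Y, V) Γ(X, f ⁻¹ᵁ V) := (f.app V).hom.toAlgebra
  haveI : Algebra.IsIntegral Γ(Y, V) Γ(X, f ⁻¹ᵁ V) :=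
    algebraMap_isIntegral_iff.1 (f.isIntegral_app V hV)
  let q := (hV.primeIdealOf ⟨y, hy⟩).asIdeal
  let Ω := AlgebraicClosure q.ResidueField
  let a : Γ(Y, V) →+* Ω := (algebraMap q.ResidueField Ω).comp (algebraMap Γ(Y, V) q.ResidueField)
  have ha : RingHom.ker a = q := by
    rw [← RingHom.comap_ker (algebraMap q.ResidueField Ω), (RingHom.injective_iff_ker_eq_bot _).1 (algebraMap q.ResidueField Ω).injective]
    exact Ideal.ker_algebraMap_residueField q
  -- minimal primes correspond to the generic points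
  have hgen : ∀ P : minimalPrimes Γ(X, f ⁻¹ᵁ V),
      hU.fromSpec (⟨P.1, P.2.1.1⟩ : PrimeSpectrum _) ∈ genericPoints X :=
    fun P => (fromSpec_mem_genericPoints_iff hU _).2 P.2
  have hmin : ∀ P : minimalPrimes Γ(X, f ⁻¹ᵁ V),
      P.1.comap (algebraMap Γ(Y, V) Γ(X, f ⁻¹ᵁ V)) ∈ minimalPrimes Γ(Y, V) := by
    intro P
    have h1 := hf.1.1 (hgen P)
    rw [apply_fromSpec f hV hU] at h1
    exact (fromSpec_mem_genericPoints_iff hV _).1 h1
  let φ : minimalPrimes Γ(X, f ⁻¹ᵁ V) → minimalPrimes Γ(Y, V) := fun P => ⟨_, hmin P⟩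
  have hφ : Function.Bijective φ := by
    constructor
    · intro P P' h
      have hc : PrimeSpectrum.comap (f.app V).hom ⟨P.1, P.2.1.1⟩ = PrimeSpectrum.comap (f.app V).hom ⟨P'.1, P'.2.1.1⟩ :=
        PrimeSpectrum.ext (congrArg Subtype.val h)
      have h1 := hf.1.2.1 (hgen P) (hgen P')
        ((apply_fromSpec f hV hU _).trans ((congrArg hV.fromSpec hc).trans (apply_fromSpec f hV hU _).symm))
      exact Subtype.ext (congrArg PrimeSpectrum.asIdeal (hU.fromSpec.isOpenEmbedding.injective h1))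
    · intro p
      obtain ⟨x, hx, hxp⟩ := hf.1.2.2 ((fromSpec_mem_genericPoints_iff hV ⟨p.1, p.2.1.1⟩).2 p.2)
      have hxV : f x ∈ V := by
        rw [hxp, ← SetLike.mem_coe, ← hV.range_fromSpec]
        exact Set.mem_range_self _
      obtain ⟨(P : PrimeSpectrum Γ(X, f ⁻¹ᵁ V)), rfl⟩ : x ∈ Set.range hU.fromSpec := by
        rw [hU.range_fromSpec]; exact hxV
      rw [apply_fromSpec f hV hU] at hxp
      exact ⟨⟨P.asIdeal, (fromSpec_mem_genericPoints_iff hU P).1 hx⟩,
        Subtype.ext (congrArg PrimeSpectrum.asIdeal (hV.fromSpec.isOpenEmbedding.injective hxp :))⟩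
  have hres : ∀ P, Function.Bijective (Ideal.ResidueField.mapₐ (φ P).1 P.1
      (Algebra.ofId Γ(Y, V) Γ(X, f ⁻¹ᵁ V)) rfl) := by
    intro P
    have hxV : f (hU.fromSpec (⟨P.1, P.2.1.1⟩ : PrimeSpectrum _)) ∈ V := by
      change hU.fromSpec _ ∈ f ⁻¹ᵁ V
      rw [← SetLike.mem_coe, ← hU.range_fromSpec]
      exact Set.mem_range_self _
    refine mapₐ_bijective f hV hU rfl _ hxV ((hf.2 _ (hf.1.1 (hgen P))).2 _ rfl) P.1 ?_ _ _
    exact (congrArg PrimeSpectrum.asIdeal (hU.fromSpec.isOpenEmbedding.injective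
      (hU.fromSpec_primeIdealOf ⟨_, hxV⟩))).symm
  rw [isGeomUnibranch_iff_br hV y hy a ha, subsingleton_br_iff φ hφ (fun _ => rfl) hres a]
  refine and_congr ?_ ?_
  · rw [isRadicialAt_iff]
    constructor
    · intro h K _ g₁ g₂ hg hg₁
      have hg₂ : f (g₂ (pt K)) = y := by
        rw [← Scheme.Hom.comp_apply, ← hg, Scheme.Hom.comp_apply, hg₁]
      have hl : ∀ g : Spec (CommRingCat.of K) ⟶ X, f (g (pt K)) = y →
          ∃ c : Γ(X, f ⁻¹ᵁ V) →+* K, Spec.map (CommRingCat.ofHom c) ≫ hU.fromSpec = g := by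
        intro g hgy
        have hr : Set.range g ⊆ Set.range hU.fromSpec := by
          rintro _ ⟨z, rfl⟩
          rw [hU.range_fromSpec, apply_eq g z (pt K)]
          show f (g (pt K)) ∈ V
          rw [hgy]; exact hy
        obtain ⟨c, hc⟩ := Spec.map_surjective (IsOpenImmersion.lift hU.fromSpec g hr)
        exact ⟨c.hom, by rw [CommRingCat.ofHom_hom, hc, IsOpenImmersion.lift_fac]⟩
      obtain ⟨c₁, rfl⟩ := hl g₁ hg₁
      obtain ⟨c₂, rfl⟩ := hl g₂ hg₂
      simp only [Category.assoc, ← SpecMap_app_fromSpec f hV hU, ← Spec.map_comp_assoc, cancel_mono] at hg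
      have hc := congrArg CommRingCat.Hom.hom (Spec.map_injective hg)
      simp only [CommRingCat.hom_comp, CommRingCat.hom_ofHom] at hc
      let a₀ := c₁.comp (f.app V).hom
      have ha₀ : RingHom.ker a₀ = q := by
        have h1 : hV.fromSpec (Spec.map (f.app V ≫ CommRingCat.ofHom c₁) (pt K)) = y := by
          rw [← hg₁, Spec.map_comp]
          exact congrArg (fun g : Spec Γ(X, f ⁻¹ᵁ V) ⟶ Y => g (Spec.map (CommRingCat.ofHom c₁) (pt K)))
            (SpecMap_app_fromSpec f hV hU)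
        have h2 := hV.fromSpec.isOpenEmbedding.injective (h1.trans (hV.fromSpec_primeIdealOf ⟨y, hy⟩).symm)
        refine Eq.trans ?_ (congrArg PrimeSpectrum.asIdeal h2)
        show RingHom.ker a₀ = Ideal.comap a₀ (maximalIdeal K)
        rw [IsLocalRing.maximalIdeal_eq_bot]
        rfl
      let K' := AlgebraicClosure K
      have : Module.IsTorsionFree q.ResidueField Ω :=
        Module.isTorsionFree_iff_algebraMap_injective.2 (algebraMap q.ResidueField Ω).injective
      let ρ : q.ResidueField →+* K' := Ideal.ResidueField.lift q ((algebraMap K K').comp a₀)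
        (by rw [← RingHom.comap_ker (algebraMap K K'), (RingHom.injective_iff_ker_eq_bot _).1 (algebraMap K K').injective]; exact ha₀.ge)
        (fun r hr => isUnit_iff_ne_zero.2 fun h0 => hr (ha₀.le ((map_eq_zero (algebraMap K K')).1 h0)))
      letI := ρ.toAlgebra
      have : Module.IsTorsionFree q.ResidueField K' :=
        Module.isTorsionFree_iff_algebraMap_injective.2 ρ.injective
      let j : Ω →ₐ[q.ResidueField] K' := IsAlgClosed.lift
      have hja : j.toRingHom.comp a = (algebraMap K K').comp a₀ :=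
        RingHom.ext fun r => (j.commutes _).trans (Ideal.ResidueField.lift_algebraMap ..)
      obtain ⟨b₁, hb₁, hb₁'⟩ := exists_factor a j.toRingHom ((algebraMap K K').comp c₁)
        ((RingHom.comp_assoc _ _ _).trans hja.symm)
      obtain ⟨b₂, hb₂, hb₂'⟩ := exists_factor a j.toRingHom ((algebraMap K K').comp c₂)
        ((RingHom.comp_assoc _ _ _).trans ((congrArg ((algebraMap K K').comp) hc.symm).trans hja.symm))
      have hb : b₁ = b₂ := congrArg Subtype.val (@Subsingleton.elim _ h ⟨b₁, hb₁'⟩ ⟨b₂, hb₂'⟩)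
      subst hb
      rw [show c₁ = c₂ from RingHom.ext fun s => (algebraMap K K').injective
        (RingHom.congr_fun (hb₁.symm.trans hb₂) s)]
    · intro h
      refine ⟨fun b b' => Subtype.ext ?_⟩
      have e : ∀ b : {b : Γ(X, f ⁻¹ᵁ V) →+* Ω // b.comp (algebraMap _ _) = a},
          (Spec.map (CommRingCat.ofHom b.1) ≫ hU.fromSpec) ≫ f =
            Spec.map (CommRingCat.ofHom a) ≫ hV.fromSpec := by
        intro b
        rw [Category.assoc, ← SpecMap_app_fromSpec f hV hU, ← Spec.map_comp_assoc]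
        congr 2
        exact CommRingCat.hom_ext b.2
      have h1 := h Ω _ _ ((e b).trans (e b').symm) ?_
      · rw [cancel_mono] at h1
        exact congrArg CommRingCat.Hom.hom (Spec.map_injective h1)
      · rw [← Scheme.Hom.comp_apply, e b, Scheme.Hom.comp_apply]
        refine (congrArg hV.fromSpec (PrimeSpectrum.ext ?_)).trans (hV.fromSpec_primeIdealOf ⟨y, hy⟩)
        show Ideal.comap a (maximalIdeal Ω) = q
        rw [IsLocalRing.maximalIdeal_eq_bot]
        exact ha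
  · constructor
    · intro h x hx
      have hxV : f x ∈ V := hx.symm ▸ hy
      let Q := hU.primeIdealOf ⟨x, hxV⟩
      have hQ : Q.asIdeal.comap (algebraMap Γ(Y, V) Γ(X, f ⁻¹ᵁ V)) = RingHom.ker a := by
        rw [ha]
        have h1 := (apply_fromSpec f hV hU Q).symm.trans ((congrArg f (hU.fromSpec_primeIdealOf _)).trans
          (hx.trans (hV.fromSpec_primeIdealOf ⟨y, hy⟩).symm))
        exact congrArg PrimeSpectrum.asIdeal (hV.fromSpec.isOpenEmbedding.injective h1)
      obtain ⟨b, hb, hbQ⟩ := exists_hom_over a Q.asIdeal hQ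
      exact (isGeomUnibranch_iff_br hU x hxV b hbQ).2 (h b hb)
    · intro h b hb
      let Q : PrimeSpectrum Γ(X, f ⁻¹ᵁ V) := ⟨RingHom.ker b, RingHom.ker_isPrime b⟩
      have hQ : f (hU.fromSpec Q) = y := by
        rw [apply_fromSpec f hV hU]
        refine (congrArg hV.fromSpec (PrimeSpectrum.ext ?_)).trans (hV.fromSpec_primeIdealOf ⟨y, hy⟩)
        exact (RingHom.comap_ker b (f.app V).hom).trans ((congrArg RingHom.ker hb).trans ha)
      have hxV : f (hU.fromSpec Q) ∈ V := hQ.symm ▸ hy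
      refine (isGeomUnibranch_iff_br hU _ hxV b ?_).1 (h _ hQ)
      exact (congrArg PrimeSpectrum.asIdeal (hU.fromSpec.isOpenEmbedding.injective
        (hU.fromSpec_primeIdealOf ⟨_, hxV⟩))).symm

theorem isGeomUnibranch_iff_isRadicialAt [IsIntegralHom f] (hf : RadPt.IsBirational f) (y : Y) :
    CAlg2.IsGeomUnibranch (Y.presheaf.stalk y) ↔
      (RadPt.IsRadicialAt f y ∧ ∀ x : X, f x = y → CAlg2.IsGeomUnibranch (X.presheaf.stalk x)) := by
  obtain ⟨_, ⟨V, hV, rfl⟩, hy, -⟩ :=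
    Y.isBasis_affineOpens.exists_subset_of_mem_open (Set.mem_univ y) isOpen_univ
  exact isGeomUnibranch_iff_local f hV (hV.preimage f) hf y hy

end Groth.Agent.RadPt58
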