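import Groth.Agent.Brnch26.Local
import Mathlib.FieldTheory.IsAlgClosed.AlgebraicClosure
import Mathlib.RingTheory.Localization.Integral

/-!
Geometric branches as geometric points of the normalizations of the components.
-/

set_option autoImplicit false

universe u v

open IsLocalRing

noncomputable section

namespace Groth.Agent.RadPt58

/-- Ring maps out of the integral closure of `R` in `K` over a point `a`. -/
abbrev Pts (R : Type u) [CommRing R] (K : Type u) [Field K] [Algebra R K] {Ω : Type u} [Field Ω]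
    (a : R →+* Ω) : Type u :=
  {φ : integralClosure R K →+* Ω // φ.comp (algebraMap R (integralClosure R K)) = a}

/-- The geometric branches over a point `a`. -/
abbrev Br (R : Type u) [CommRing R] {Ω : Type u} [Field Ω] (a : R →+* Ω) : Type u :=
  Σ p : minimalPrimes R, Pts R p.1.ResidueField a

/-- Values of integral elements lie in an algebraically closed subfield. -/
theorem exists_factor {R D Ω Ω' : Type u} [CommRing R] [CommRing D] [Algebra R D] [Algebra.IsIntegral R D]
    [Field Ω] [IsAlgClosed Ω] [Field Ω'] (a : R →+* Ω) (j : Ω →+* Ω') (φ : D →+* Ω')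
    (h : φ.comp (algebraMap R D) = j.comp a) :
    ∃ c : D →+* Ω, j.comp c = φ ∧ c.comp (algebraMap R D) = a := by
  letI := j.toAlgebra
  have hr : ∀ d, ∃ c, j c = φ d := by
    intro d
    obtain ⟨P, hP, hP0⟩ := Algebra.IsIntegral.isIntegral (R := R) d
    have hint : IsIntegral Ω (φ d) := ⟨P.map a, hP.map a, by
      rw [Polynomial.eval₂_map, show (algebraMap Ω Ω').comp a = φ.comp (algebraMap R D) from h.symm,
        ← Polynomial.hom_eval₂, hP0, map_zero]⟩
    obtain ⟨c, hc⟩ := minpoly.mem_range_of_degree_eq_one Ω (φ d)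
      (IsAlgClosed.degree_eq_one_of_irreducible Ω (minpoly.irreducible hint))
    exact ⟨c, hc⟩
  choose c hc using hr
  refine ⟨{ toFun := c, map_one' := j.injective (by rw [hc, map_one, map_one]),
            map_mul' := fun x y => j.injective (by rw [hc, map_mul, map_mul, hc, hc]),
            map_zero' := j.injective (by rw [hc, map_zero, map_zero]),
            map_add' := fun x y => j.injective (by rw [hc, map_add, map_add, hc, hc]) },
    RingHom.ext hc, RingHom.ext fun r => j.injective ?_⟩
  exact (hc _).trans (RingHom.congr_fun h r)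

/-- The algebraic closure of a residue field maps to any algebraically closed point over it. -/
theorem exists_closure_hom {A Ω : Type u} [CommRing A] [IsLocalRing A] [Field Ω] [IsAlgClosed Ω] (a : A →+* Ω)
    (ha : RingHom.ker a = maximalIdeal A) :
    ∃ j : AlgebraicClosure (ResidueField A) →+* Ω, j.comp (Brnch.toClosure A) = a := by
  let ρ : ResidueField A →+* Ω := Ideal.Quotient.lift (maximalIdeal A) a fun x hx => ha.ge hx
  letI := ρ.toAlgebra
  let j : AlgebraicClosure (ResidueField A) →ₐ[ResidueField A] Ω := IsAlgClosed.lift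
  exact ⟨j.toRingHom, RingHom.ext fun x => j.commutes (residue A x)⟩

theorem nonempty_equiv_embOf {A : Type u} [CommRing A] [IsLocalRing A] {Ω : Type u} [Field Ω] [IsAlgClosed Ω]
    (a : A →+* Ω) (ha : RingHom.ker a = maximalIdeal A) (K : Type u) [Field K] [Algebra A K] :
    Nonempty ((Σ m : MaximalSpectrum (integralClosure A K), VarNorm.EmbOf A (integralClosure A K) m) ≃
      Pts A K a) := by
  obtain ⟨j, hj⟩ := exists_closure_hom a ha
  refine ⟨Equiv.ofBijective (fun z => ⟨j.comp (z.2.1.comp (Ideal.Quotient.mk z.1.asIdeal)), ?_⟩) ⟨?_, ?_⟩⟩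
  · rw [RingHom.comp_assoc, RingHom.comp_assoc, z.2.2, hj]
  · rintro ⟨m, σ⟩ ⟨m', σ'⟩ h
    have h1 : σ.1.comp (Ideal.Quotient.mk m.asIdeal) = σ'.1.comp (Ideal.Quotient.mk m'.asIdeal) :=
      RingHom.ext fun x => j.injective (RingHom.congr_fun (congrArg Subtype.val h) x)
    have hk : ∀ (n : MaximalSpectrum (integralClosure A K))
        (τ : VarNorm.EmbOf A (integralClosure A K) n),
        RingHom.ker (τ.1.comp (Ideal.Quotient.mk n.asIdeal)) = n.asIdeal := by
      intro n τ
      have := n.isMaximal
      letI := Ideal.Quotient.field n.asIdeal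
      rw [← RingHom.comap_ker, (RingHom.injective_iff_ker_eq_bot _).1 (RingHom.injective τ.1)]
      exact Ideal.mk_ker
    obtain rfl : m = m' := MaximalSpectrum.ext ((hk m σ).symm.trans ((congrArg RingHom.ker h1).trans (hk m' σ')))
    exact Sigma.ext rfl (heq_of_eq (Subtype.ext (Ideal.Quotient.ringHom_ext h1)))
  · rintro ⟨φ, hφ⟩
    obtain ⟨c, hjc, hc⟩ := exists_factor (Brnch.toClosure A) j φ (hφ.trans hj.symm)
    have hm : (RingHom.ker c).IsMaximal := by
      have hp : (RingHom.ker c).IsPrime := RingHom.ker_isPrime c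
      refine Ideal.isMaximal_of_isIntegral_of_isMaximal_comap (R := A) _ ?_
      rw [RingHom.comap_ker, hc, show RingHom.ker (Brnch.toClosure A) = maximalIdeal A from ?_]
      · exact maximalIdeal.isMaximal A
      · rw [← ha, ← hj, ← RingHom.comap_ker j, (RingHom.injective_iff_ker_eq_bot _).1 j.injective]
        rfl
    refine ⟨⟨⟨RingHom.ker c, hm⟩, ⟨Ideal.Quotient.lift _ c fun x hx => hx, ?_⟩⟩, Subtype.ext ?_⟩
    · exact RingHom.ext fun x => RingHom.congr_fun hc x
    · exact RingHom.ext fun x => RingHom.congr_fun hjc x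

theorem isGeomUnibranch_iff_subsingleton {A : Type u} [CommRing A] [IsLocalRing A] {Ω : Type u} [Field Ω]
    [IsAlgClosed Ω] (a : A →+* Ω) (ha : RingHom.ker a = maximalIdeal A) :
    CAlg2.IsGeomUnibranch A ↔ Subsingleton (Br A a) := by
  rw [← Brnch26.isGeomUnibranch_iff, Brnch26.numGeomBranches_eq_sigma, Brnch26.card_eq_one_iff]
  let e := Equiv.sigmaCongrRight fun p : minimalPrimes A =>
    (nonempty_equiv_embOf a ha p.1.ResidueField).some
  rw [e.subsingleton_congr]
  refine ⟨fun h => h.1, fun h => ⟨h, ?_⟩⟩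
  obtain ⟨p, hp, -⟩ := Ideal.exists_minimalPrimes_le (I := (⊥ : Ideal A)) (J := maximalIdeal A) bot_le
  let P : minimalPrimes A := ⟨p, hp⟩
  obtain ⟨m⟩ := (inferInstance : Nonempty (MaximalSpectrum (Brnch26.Comp A P)))
  obtain ⟨σ⟩ := Brnch26.nonempty_embOf A m
  exact ⟨⟨P, m, σ⟩⟩

/-- Points and isomorphic fields. -/
def ptsCongr {R : Type u} [CommRing R] {K L : Type u} [Field K] [Field L] [Algebra R K] [Algebra R L]
    (e : K ≃ₐ[R] L) {Ω : Type u} [Field Ω] (a : R →+* Ω) : Pts R K a ≃ Pts R L a where
  toFun φ := ⟨φ.1.comp e.mapIntegralClosure.symm.toRingEquiv.toRingHom,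
    RingHom.ext fun r => (congrArg φ.1 (e.mapIntegralClosure.symm.commutes r)).trans (RingHom.congr_fun φ.2 r)⟩
  invFun φ := ⟨φ.1.comp e.mapIntegralClosure.toRingEquiv.toRingHom,
    RingHom.ext fun r => (congrArg φ.1 (e.mapIntegralClosure.commutes r)).trans (RingHom.congr_fun φ.2 r)⟩
  left_inv φ := Subtype.ext (RingHom.ext fun x => congrArg φ.1 (e.mapIntegralClosure.symm_apply_apply x))
  right_inv φ := Subtype.ext (RingHom.ext fun x => congrArg φ.1 (e.mapIntegralClosure.apply_symm_apply x))

/-- Localizing at the point. -/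
theorem nonempty_pts_equiv_localization {R A : Type u} [CommRing R] [CommRing A] [Algebra R A]
    (M : Submonoid R) [IsLocalization M A] (K : Type u) [Field K] [Algebra R K] [Algebra A K]
    [IsScalarTower R A K] {Ω : Type u} [Field Ω] (a : A →+* Ω) :
    Nonempty (Pts A K a ≃ Pts R K (a.comp (algebraMap R A))) := by
  have hunit : Algebra.algebraMapSubmonoid K M ≤ IsUnit.submonoid K := by
    rintro _ ⟨m, hm, rfl⟩
    show IsUnit (algebraMap R K m)
    rw [IsScalarTower.algebraMap_apply R A K]
    exact (IsLocalization.map_units A ⟨m, hm⟩).map _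
  have : IsLocalization (Algebra.algebraMapSubmonoid K M) K := IsLocalization.self hunit
  let TR := integralClosure R K
  let TA := integralClosure A K
  let ι : TR →+* TA :=
    { toFun := fun x => ⟨x.1, x.2.tower_top⟩
      map_one' := rfl, map_mul' := fun _ _ => rfl, map_zero' := rfl, map_add' := fun _ _ => rfl }
  letI : Algebra TR TA := ι.toAlgebra
  have : IsScalarTower TR TA K := IsScalarTower.of_algebraMap_eq fun _ => rfl
  have : IsScalarTower R TR TA := IsScalarTower.of_algebraMap_eq fun r => Subtype.ext rfl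
  have hloc : IsLocalization (Algebra.algebraMapSubmonoid TR M) TA :=
    IsLocalization.integralClosure M (Rf := A) (Sf := K)
  refine ⟨Equiv.ofBijective (fun φ => ⟨φ.1.comp ι, ?_⟩) ⟨fun φ ψ h => ?_, fun φ => ?_⟩⟩
  · refine RingHom.ext fun r => ?_
    have hr : ι (algebraMap R TR r) = algebraMap A TA (algebraMap R A r) :=
      Subtype.ext (IsScalarTower.algebraMap_apply R A K r)
    exact (congrArg φ.1 hr).trans (RingHom.congr_fun φ.2 _)
  · exact Subtype.ext (IsLocalization.ringHom_ext (Algebra.algebraMapSubmonoid TR M) (congrArg Subtype.val h))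
  · have hu : ∀ y : Algebra.algebraMapSubmonoid TR M, IsUnit (φ.1 y) := by
      rintro ⟨_, m, hm, rfl⟩
      show IsUnit (φ.1 (algebraMap R TR m))
      rw [show φ.1 (algebraMap R TR m) = a (algebraMap R A m) from RingHom.congr_fun φ.2 m]
      exact (IsLocalization.map_units A ⟨m, hm⟩).map a
    have hψ := IsLocalization.lift_comp (S := TA) hu
    refine ⟨⟨IsLocalization.lift hu, IsLocalization.ringHom_ext M (RingHom.ext fun r => ?_)⟩, Subtype.ext hψ⟩
    have hr : algebraMap A TA (algebraMap R A r) = ι (algebraMap R TR r) :=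
      Subtype.ext (IsScalarTower.algebraMap_apply R A K r).symm
    exact ((congrArg (IsLocalization.lift hu) hr).trans (RingHom.congr_fun hψ _)).trans (RingHom.congr_fun φ.2 r)

/-- Points of the integral closure through an integral subalgebra. -/
theorem nonempty_pts_equiv_sigma {R S : Type u} [CommRing R] [CommRing S] [Algebra R S] [Algebra.IsIntegral R S]
    (K : Type u) [Field K] [Algebra R K] [Algebra S K] [IsScalarTower R S K] {Ω : Type u} [Field Ω] (a : R →+* Ω) :
    Nonempty ((Σ b : {b : S →+* Ω // b.comp (algebraMap R S) = a}, Pts S K b.1) ≃ Pts R K a) := by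
  let e : integralClosure R K ≃+* integralClosure S K :=
    { toFun := fun z => ⟨z.1, z.2.tower_top⟩
      invFun := fun w => ⟨w.1, isIntegral_trans w.1 w.2⟩
      map_mul' := fun _ _ => rfl
      map_add' := fun _ _ => rfl }
  have he : ∀ r, e (algebraMap R (integralClosure R K) r) = algebraMap S (integralClosure S K) (algebraMap R S r) :=
    fun r => Subtype.ext (IsScalarTower.algebraMap_apply R S K r)
  refine ⟨Equiv.ofBijective (fun z => ⟨z.2.1.comp e.toRingHom, RingHom.ext fun r => ?_⟩) ⟨?_, fun φ => ?_⟩⟩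
  · exact (congrArg z.2.1 (he r)).trans ((RingHom.congr_fun z.2.2 _).trans (RingHom.congr_fun z.1.2 r))
  · rintro ⟨b, ψ⟩ ⟨b', ψ'⟩ h
    have h1 : ψ.1 = ψ'.1 := RingHom.ext fun w => by
      simpa using RingHom.congr_fun (congrArg Subtype.val h) (e.symm w)
    obtain rfl : b = b' := Subtype.ext (ψ.2.symm.trans ((congrArg (fun q => q.comp (algebraMap S _)) h1).trans ψ'.2))
    exact Sigma.ext rfl (heq_of_eq (Subtype.ext h1))
  · refine ⟨⟨⟨(φ.1.comp e.symm.toRingHom).comp (algebraMap S (integralClosure S K)), RingHom.ext fun r => ?_⟩,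
      ⟨φ.1.comp e.symm.toRingHom, rfl⟩⟩, Subtype.ext (RingHom.ext fun z => congrArg φ.1 (e.symm_apply_apply z))⟩
    exact (congrArg (fun q => φ.1 (e.symm q)) (he r).symm).trans
      ((congrArg φ.1 (e.symm_apply_apply _)).trans (RingHom.congr_fun φ.2 r))

/-- The residue field map of a localization is bijective. -/
theorem residueFieldMap_bijective {R A : Type u} [CommRing R] [CommRing A] [Algebra R A]
    (M : Submonoid R) [IsLocalization M A] (P : Ideal A) [P.IsPrime] (p : Ideal R) [p.IsPrime]
    (h : p = P.comap (algebraMap R A)) :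
    Function.Bijective (Ideal.ResidueField.mapₐ p P (Algebra.ofId R A) h) := by
  refine ⟨RingHom.injective _, fun z => ?_⟩
  have key : ∀ x : A, ∃ c, Ideal.ResidueField.mapₐ p P (Algebra.ofId R A) h c = algebraMap A P.ResidueField x := by
    intro x
    obtain ⟨⟨r, m⟩, hm⟩ := IsLocalization.surj M x
    refine ⟨algebraMap R _ r / algebraMap R _ (m : R), ?_⟩
    have hne : algebraMap A P.ResidueField (algebraMap R A (m : R)) ≠ 0 :=
      ((IsLocalization.map_units A m).map (algebraMap A P.ResidueField)).ne_zero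
    rw [map_div₀, AlgHom.commutes, AlgHom.commutes, IsScalarTower.algebraMap_apply R A P.ResidueField,
      IsScalarTower.algebraMap_apply R A P.ResidueField, ← hm, map_mul, mul_div_assoc, div_self hne, mul_one]
  obtain ⟨x, y, hy, rfl⟩ := IsFractionRing.div_surjective (A ⧸ P) z
  obtain ⟨x, rfl⟩ := Ideal.Quotient.mk_surjective x
  obtain ⟨y, rfl⟩ := Ideal.Quotient.mk_surjective y
  obtain ⟨c, hc⟩ := key x
  obtain ⟨d, hd⟩ := key y
  refine ⟨c / d, ?_⟩
  rw [map_div₀, hc, hd]
  rfl

theorem nonempty_pts_loc {R A : Type u} [CommRing R] [CommRing A] [Algebra R A] (M : Submonoid R) [IsLocalization M A]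
    {k : Type u} [Field k] [Algebra R k] {K : Type u} [Field K] [Algebra R K] [Algebra A K] [IsScalarTower R A K]
    (ε : k ≃ₐ[R] K) {Ω : Type u} [Field Ω] (a' : A →+* Ω) (a : R →+* Ω) (h : a'.comp (algebraMap R A) = a) :
    Nonempty (Pts A K a' ≃ Pts R k a) := by
  subst h
  exact ⟨(nonempty_pts_equiv_localization M K a').some.trans (ptsCongr ε _).symm⟩

theorem nonempty_pts_prime {R A : Type u} [CommRing R] [CommRing A] [Algebra R A] (M : Submonoid R) [IsLocalization M A]
    (P : Ideal A) [P.IsPrime] (p : Ideal R) [p.IsPrime] (hp : p = P.comap (algebraMap R A))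
    {Ω : Type u} [Field Ω] (a' : A →+* Ω) (a : R →+* Ω) (h : a'.comp (algebraMap R A) = a) :
    Nonempty (Pts A P.ResidueField a' ≃ Pts R p.ResidueField a) :=
  nonempty_pts_loc M (k := p.ResidueField) (K := P.ResidueField)
    (AlgEquiv.ofBijective (Ideal.ResidueField.mapₐ p P (Algebra.ofId R A) hp)
      (residueFieldMap_bijective M P p hp)) a' a h

/-- Geometric unibranchness of a localization through the points of the branches. -/
theorem isGeomUnibranch_localization_iff {R A : Type u} [CommRing R] [CommRing A] [IsLocalRing A] [Algebra R A]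
    (q : Ideal R) [q.IsPrime] [IsLocalization.AtPrime A q] {Ω : Type u} [Field Ω] [IsAlgClosed Ω]
    (a : R →+* Ω) (ha : RingHom.ker a = q) :
    CAlg2.IsGeomUnibranch A ↔ Subsingleton (Br R a) := by
  have hu : ∀ y : q.primeCompl, IsUnit (a y) := fun y =>
    isUnit_iff_ne_zero.2 fun h => y.2 (ha.le h)
  let a' : A →+* Ω := IsLocalization.lift hu
  have ha' : a'.comp (algebraMap R A) = a := IsLocalization.lift_comp hu
  have hker : RingHom.ker a' = maximalIdeal A := by
    rw [← IsLocalization.map_under q.primeCompl A (RingHom.ker a'), Ideal.under, RingHom.comap_ker, ha', ha,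
      IsLocalization.AtPrime.map_eq_maximalIdeal q A]
  rw [isGeomUnibranch_iff_subsingleton a' hker]
  have hmem : ∀ P : minimalPrimes A, P.1.comap (algebraMap R A) ∈ minimalPrimes R := by
    intro P
    refine ⟨⟨Ideal.comap_isPrime _ _, bot_le⟩, fun p' hp' hle => ?_⟩
    have hdisj : Disjoint (q.primeCompl : Set R) (p' : Set R) := by
      refine Set.disjoint_left.2 fun x hx hx' => hx ?_
      rw [← IsLocalization.AtPrime.under_maximalIdeal A q]
      exact Ideal.comap_mono (le_maximalIdeal P.2.1.1.ne_top) (hle hx')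
    have := hp'.1
    have h2 := P.2.2 ⟨IsLocalization.isPrime_of_isPrime_disjoint q.primeCompl A p' this hdisj, bot_le⟩
      (Ideal.map_le_iff_le_comap.2 hle)
    refine (Ideal.comap_mono h2).trans ?_
    exact (IsLocalization.under_map_of_isPrime_disjoint q.primeCompl A this hdisj).le
  let f : minimalPrimes A → minimalPrimes R := fun P => ⟨_, hmem P⟩
  have hfinj : Function.Injective f := by
    intro P P' h
    apply Subtype.ext
    have h' : P.1.under R = P'.1.under R := congrArg Subtype.val h
    rw [← IsLocalization.map_under q.primeCompl A P.1, h', IsLocalization.map_under q.primeCompl A P'.1]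
  let e : ∀ P : minimalPrimes A, Pts A P.1.ResidueField a' ≃ Pts R (f P).1.ResidueField a := fun P =>
    (nonempty_pts_prime q.primeCompl P.1 (f P).1 rfl a' a ha').some
  let g : Br A a' → Br R a := Sigma.map f fun P => e P
  have hg : Function.Bijective g := by
    constructor
    · exact hfinj.sigma_map fun P => (e P).injective
    · rintro ⟨p, φ⟩
      have hp := p.2.1.1
      have hle : p.1 ≤ q := by
        intro x hx
        rw [← ha, RingHom.mem_ker, ← φ.2, RingHom.comp_apply]
        have h0 : algebraMap R (integralClosure R p.1.ResidueField) x = 0 :=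
          Subtype.ext (Ideal.algebraMap_residueField_eq_zero.2 hx)
        rw [h0, map_zero]
      have hdisj : Disjoint (q.primeCompl : Set R) (p.1 : Set R) :=
        Set.disjoint_left.2 fun x hx hx' => hx (hle hx')
      have hcm := IsLocalization.under_map_of_isPrime_disjoint q.primeCompl A hp hdisj
      have hPmin : p.1.map (algebraMap R A) ∈ minimalPrimes A := by
        refine ⟨⟨IsLocalization.isPrime_of_isPrime_disjoint q.primeCompl A p.1 hp hdisj, bot_le⟩, fun Q hQ hle' => ?_⟩
        have := hQ.1
        refine Ideal.map_le_iff_le_comap.2 (p.2.2 ⟨Ideal.comap_isPrime _ _, bot_le⟩ ?_)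
        exact (Ideal.comap_mono hle').trans hcm.le
      obtain ⟨P, rfl⟩ : ∃ P, f P = p := ⟨⟨_, hPmin⟩, Subtype.ext hcm⟩
      exact ⟨⟨P, (e P).symm φ⟩, Sigma.ext rfl (heq_of_eq ((e P).apply_symm_apply φ))⟩
  exact (Equiv.ofBijective g hg).subsingleton_congr

/-- Branches and integral birational extensions. -/
theorem nonempty_br_equiv {R S : Type u} [CommRing R] [CommRing S] [Algebra R S] [Algebra.IsIntegral R S]
    (f : minimalPrimes S → minimalPrimes R) (hf : Function.Bijective f)
    (hfc : ∀ P, (f P).1 = P.1.comap (algebraMap R S))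
    (hres : ∀ P, Function.Bijective (Ideal.ResidueField.mapₐ (f P).1 P.1 (Algebra.ofId R S) (hfc P)))
    {Ω : Type u} [Field Ω] (a : R →+* Ω) :
    Nonempty ((Σ b : {b : S →+* Ω // b.comp (algebraMap R S) = a}, Br S b.1) ≃ Br R a) := by
  let e : (Σ b : {b : S →+* Ω // b.comp (algebraMap R S) = a}, Br S b.1) ≃
      Σ P : minimalPrimes S, Σ b : {b : S →+* Ω // b.comp (algebraMap R S) = a}, Pts S P.1.ResidueField b.1 :=
    ⟨fun z => ⟨z.2.1, z.1, z.2.2⟩, fun z => ⟨z.2.1, z.1, z.2.2⟩, fun _ => rfl, fun _ => rfl⟩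
  refine ⟨e.trans ?_⟩
  exact Equiv.sigmaCongr (Equiv.ofBijective f hf) fun P =>
    (nonempty_pts_equiv_sigma P.1.ResidueField a).some.trans
      (ptsCongr (AlgEquiv.ofBijective _ (hres P)).symm a)

end Groth.Agent.RadPt58
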